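import Cfsg.Agent.OrdDiv.Table
import Cfsg.Agent.H337.HT.Num
import Cfsg.Agent.H915.LD
import Cfsg.Agent.H107.PglExc
import Cfsg.Agent.S2069
import Cfsg.Agent.S2070
import Cfsg.Agent.S2071
import Cfsg.Agent.S2072
import Cfsg.Agent.S2073
import Cfsg.Agent.S2074
import Cfsg.Agent.S2075
import Cfsg.Agent.S2077
import Cfsg.Agent.S2078

/-!
# S3540: the sporadic groups in degree at least 13 (helper119), part 1
-/

set_option autoImplicit false
set_option linter.unusedSectionVars false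
set_option maxRecDepth 100000

universe u v

namespace Cfsg.Agent.H119.HT

open Cfsg Cfsg.Agent.H915.LD Cfsg.Agent.H337.HT Cfsg.Agent

/-- `|Aut T|` -/
theorem card_aut {S : Type u} {T : Type v} [Group S] [Group T] [IsSimpleGroup S] (hna : ¬ IsMulCommutative S) (e : S ≃* T)
    {o k A : ℕ} (ho : Nat.card T = o) (hk : Nat.card (Cfsg.Out T) = k) (hA : o * k = A) : Nat.card (MulAut T) = A := by
  have hT : IsSimpleGroup T := (MulEquiv.isSimpleGroup_congr e).1 inferInstance
  rw [H107.PglExc.card_mulAut ?_, ho, hk, hA]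
  rw [← MonoidHom.ker_eq_bot_iff]
  rcases hT.eq_bot_or_eq_top_of_normal (MulAut.conj : T →* MulAut T).ker inferInstance with h | h
  · exact h
  · exfalso
    apply hna
    refine ⟨⟨fun a b => e.injective ?_⟩⟩
    rw [map_mul, map_mul]
    have h1 : e a ∈ (MulAut.conj : T →* MulAut T).ker := by rw [h]; exact Subgroup.mem_top _
    rw [MonoidHom.mem_ker] at h1
    have h2 := DFunLike.congr_fun h1 (e b)
    rw [MulAut.conj_apply, MulAut.one_apply] at h2
    exact mul_inv_eq_iff_eq_mul.1 h2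

variable {F : Type u} [Field F] [Finite F] {n : ℕ} {P : Subgroup (Matrix.GeneralLinearGroup (Fin n) F)}

/-- the frame -/
theorem dead_of (hC : Core P) {T : Type} [Group T] (e : Soc P ≃* T) {o k A n₀ : ℕ} (q₀ fq fn : ℕ)
    (ho : Nat.card T = o) (hk : Nat.card (Cfsg.Out T) = k) (hA : o * k = A) (hA0 : 0 < A) (h2 : 2 ≤ q₀) (hn₀ : 2 ≤ n₀)
    (h1 : (List.range q₀).all (fun q => Nat.ble q 1 || Nat.ble 2 (Nat.gcd q o)) = true)
    (h : loopN o A q₀ fq fn n₀ = true) (hn : n₀ ≤ n) : Dead n (Soc P) := by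
  have := hC.simple
  exact Dead.congr e.symm (sieve_dead q₀ fq fn ho (card_aut hC.nonabelian e ho hk hA) hA0 h2 hn₀ h1 h hn)

/-- `IsoCo1` -/
theorem dead_co1 (hC : Core P) (hn : 13 ≤ n) (h : Spor.IsoCo1 (Soc P)) : Dead n (Soc P) := by
  obtain ⟨e⟩ := h
  exact dead_of hC e (o := 4157776806543360000) (A := 4157776806543360000) (n₀ := 13) 17 2264 21 (NotCT.Orders.co1 ⟨MulEquiv.refl _⟩)
    S2069.result (by norm_num) (by norm_num) (by norm_num) (by norm_num) (by decide +kernel) (by decide +kernel) hn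

/-- `IsoCo2` -/
theorem dead_co2 (hC : Core P) (hn : 13 ≤ n) (h : Spor.IsoCo2 (Soc P)) : Dead n (Soc P) := by
  obtain ⟨e⟩ := h
  exact dead_of hC e (o := 42305421312000) (A := 42305421312000) (n₀ := 13) 13 270 15 (NotCT.Orders.co2 ⟨MulEquiv.refl _⟩)
    S2070.result (by norm_num) (by norm_num) (by norm_num) (by norm_num) (by decide +kernel) (by decide +kernel) hn

/-- `IsoCo3` -/
theorem dead_co3 (hC : Core P) (hn : 13 ≤ n) (h : Spor.IsoCo3 (Soc P)) : Dead n (Soc P) := by
  obtain ⟨e⟩ := h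
  exact dead_of hC e (o := 495766656000) (A := 495766656000) (n₀ := 13) 13 114 11 (NotCT.Orders.co3 ⟨MulEquiv.refl _⟩)
    S2071.result (by norm_num) (by norm_num) (by norm_num) (by norm_num) (by decide +kernel) (by decide +kernel) hn

/-- `IsoHS` -/
theorem dead_hs (hC : Core P) (hn : 13 ≤ n) (h : Spor.IsoHS (Soc P)) : Dead n (Soc P) := by
  obtain ⟨e⟩ := h
  exact dead_of hC e (o := 44352000) (A := 88704000) (n₀ := 13) 13 15 4 (NotCT.Orders.hs ⟨MulEquiv.refl _⟩)
    S2072.result (by norm_num) (by norm_num) (by norm_num) (by norm_num) (by decide +kernel) (by decide +kernel) hn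

/-- `IsoMcL` -/
theorem dead_mcl (hC : Core P) (hn : 13 ≤ n) (h : Spor.IsoMcL (Soc P)) : Dead n (Soc P) := by
  obtain ⟨e⟩ := h
  exact dead_of hC e (o := 898128000) (A := 1796256000) (n₀ := 13) 13 34 7 (NotCT.Orders.mcl ⟨MulEquiv.refl _⟩)
    S2073.result (by norm_num) (by norm_num) (by norm_num) (by norm_num) (by decide +kernel) (by decide +kernel) hn

/-- `IsoSuz` -/
theorem dead_suz (hC : Core P) (hn : 13 ≤ n) (h : Spor.IsoSuz (Soc P)) : Dead n (Soc P) := by
  obtain ⟨e⟩ := h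
  exact dead_of hC e (o := 448345497600) (A := 896690995200) (n₀ := 13) 17 124 10 (NotCT.Orders.suz ⟨MulEquiv.refl _⟩)
    S2074.result (by norm_num) (by norm_num) (by norm_num) (by norm_num) (by decide +kernel) (by decide +kernel) hn

/-- `IsoHe` -/
theorem dead_he (hC : Core P) (hn : 13 ≤ n) (h : Spor.IsoHe (Soc P)) : Dead n (Soc P) := by
  obtain ⟨e⟩ := h
  exact dead_of hC e (o := 4030387200) (A := 8060774400) (n₀ := 13) 11 50 9 (NotCT.Orders.he ⟨MulEquiv.refl _⟩)
    S2075.result (by norm_num) (by norm_num) (by norm_num) (by norm_num) (by decide +kernel) (by decide +kernel) hn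

/-- `IsoRu` -/
theorem dead_ru (hC : Core P) (hn : 13 ≤ n) (h : Spor.IsoRu (Soc P)) : Dead n (Soc P) := by
  obtain ⟨e⟩ := h
  exact dead_of hC e (o := 145926144000) (A := 145926144000) (n₀ := 13) 11 91 12 (NotCT.Orders.ru ⟨MulEquiv.refl _⟩)
    S2077.result (by norm_num) (by norm_num) (by norm_num) (by norm_num) (by decide +kernel) (by decide +kernel) hn

/-- `IsoON` -/
theorem dead_on (hC : Core P) (hn : 13 ≤ n) (h : Spor.IsoON (Soc P)) : Dead n (Soc P) := by
  obtain ⟨e⟩ := h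
  exact dead_of hC e (o := 460815505920) (A := 921631011840) (n₀ := 13) 13 129 12 (NotCT.Orders.on ⟨MulEquiv.refl _⟩)
    S2078.result (by norm_num) (by norm_num) (by norm_num) (by norm_num) (by decide +kernel) (by decide +kernel) hn

/-- **B12** -/
theorem dead_spor₂ (hC : Core P) (hn : 13 ≤ n) (h : Spor.IsoCo1 (Soc P) ∨ Spor.IsoCo2 (Soc P) ∨ Spor.IsoCo3 (Soc P) ∨
    Spor.IsoHS (Soc P) ∨ Spor.IsoMcL (Soc P) ∨ Spor.IsoSuz (Soc P) ∨ Spor.IsoHe (Soc P) ∨ Spor.IsoRu (Soc P) ∨
    Spor.IsoON (Soc P)) : Dead n (Soc P) := by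
  rcases h with h | h | h | h | h | h | h | h | h
  · exact dead_co1 hC hn h
  · exact dead_co2 hC hn h
  · exact dead_co3 hC hn h
  · exact dead_hs hC hn h
  · exact dead_mcl hC hn h
  · exact dead_suz hC hn h
  · exact dead_he hC hn h
  · exact dead_ru hC hn h
  · exact dead_on hC hn h

end Cfsg.Agent.H119.HT
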