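import Cfsg.Agent.OrdDiv.Table
import Cfsg.Agent.H337.HT.Num
import Cfsg.Agent.H915.LD
import Cfsg.Agent.H107.PglExc
import Cfsg.Agent.H119.HT.SporA
import Cfsg.Agent.H806.LsFiLe
import Cfsg.Agent.LThreeMB.Row
import Cfsg.Agent.H921.SporLarge
import Cfsg.Agent.S2059
import Cfsg.Agent.S2076
import Cfsg.Agent.S2079
import Cfsg.Agent.S2080
import Cfsg.Agent.S2081
import Cfsg.Agent.S2082
import Cfsg.Agent.S2083
import Cfsg.Agent.S2084
import Cfsg.Agent.S2085

/-!
# S3540: the sporadic groups in degree at least 13 (helper119), part 2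
-/

set_option autoImplicit false
set_option linter.unusedSectionVars false
set_option maxRecDepth 100000

universe u v

namespace Cfsg.Agent.H119.HT

open Cfsg Cfsg.Agent.H915.LD Cfsg.Agent.H337.HT Cfsg.Agent

variable {F : Type u} [Field F] [Finite F] {n : ℕ} {P : Subgroup (Matrix.GeneralLinearGroup (Fin n) F)}

/-- `IsoLy` -/
theorem dead_ly (hC : Core P) (hn : 13 ≤ n) (h : Spor.IsoLy (Soc P)) : Dead n (Soc P) := by
  obtain ⟨e⟩ := h
  exact dead_of hC e (o := 51765179004000000) (A := 51765179004000000) (n₀ := 13) 13 1015 20 (NotCT.Orders.ly ⟨MulEquiv.refl _⟩)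
    S2076.result (by norm_num) (by norm_num) (by norm_num) (by norm_num) (by decide +kernel) (by decide +kernel) hn

/-- `IsoFi22` -/
theorem dead_fi22 (hC : Core P) (hn : 13 ≤ n) (h : Spor.IsoFi22 (Soc P)) : Dead n (Soc P) := by
  obtain ⟨e⟩ := h
  exact dead_of hC e (o := 64561751654400) (A := 129123503308800) (n₀ := 13) 17 330 13 (NotCT.Orders.fi22 ⟨MulEquiv.refl _⟩)
    S2079.result (by norm_num) (by norm_num) (by norm_num) (by norm_num) (by decide +kernel) (by decide +kernel) hn

/-- `IsoFi23` -/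
theorem dead_fi23 (hC : Core P) (hn : 13 ≤ n) (h : Spor.IsoFi23 (Soc P)) : Dead n (Soc P) := by
  obtain ⟨e⟩ := h
  exact dead_of hC e (o := 4089470473293004800) (A := 4089470473293004800) (n₀ := 13) 19 2255 19 (NotCT.Orders.fi23 ⟨MulEquiv.refl _⟩)
    S2080.result (by norm_num) (by norm_num) (by norm_num) (by norm_num) (by decide +kernel) (by decide +kernel) hn

/-- `IsoFi24'` -/
theorem dead_fi24 {p : ℕ} [hp : Fact p.Prime] [CharP F p] (hC : Core P) (hpS : ¬ p ∣ Nat.card (Soc P))
    (h : Spor.IsoFi24' (Soc P)) : Dead n (Soc P) := by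
  have hcard := NotCT.Orders.fi24 h
  obtain ⟨e⟩ := h
  have hp2 : p ≠ 2 := by
    rintro rfl
    exact hpS (by rw [hcard]; norm_num)
  have hs := (MulEquiv.isSimpleGroup_congr e).1 hC.simple
  have hn : 28 ≤ n := H912.Bd.le_of_ls (H806.Ls.fi24_ls_two (H806.Ls.nc_of_core hC e))
    (H489.Deg.cast_ne (F := F) hp.out Nat.prime_two hp2) P hC.perfect e
  exact dead_of hC e (o := 1255205709190661721292800) (A := 2510411418381323442585600) (n₀ := 28) 19 56 13 (NotCT.Orders.fi24 ⟨MulEquiv.refl _⟩)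
    S2081.result (by norm_num) (by norm_num) (by norm_num) (by norm_num) (by decide +kernel) (by decide +kernel) hn

/-- `IsoHN` -/
theorem dead_hn (hC : Core P) (hn : 13 ≤ n) (h : Spor.IsoHN (Soc P)) : Dead n (Soc P) := by
  obtain ⟨e⟩ := h
  exact dead_of hC e (o := 273030912000000) (A := 546061824000000) (n₀ := 13) 13 437 17 (NotCT.Orders.hn ⟨MulEquiv.refl _⟩)
    S2082.result (by norm_num) (by norm_num) (by norm_num) (by norm_num) (by decide +kernel) (by decide +kernel) hn

/-- `IsoTh` -/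
theorem dead_th (hC : Core P) (hn : 13 ≤ n) (h : Spor.IsoTh (Soc P)) : Dead n (Soc P) := by
  obtain ⟨e⟩ := h
  exact dead_of hC e (o := 90745943887872000) (A := 90745943887872000) (n₀ := 13) 11 1128 23 (NotCT.Orders.th ⟨MulEquiv.refl _⟩)
    S2083.result (by norm_num) (by norm_num) (by norm_num) (by norm_num) (by decide +kernel) (by decide +kernel) hn

/-- `IsoB` -/
theorem dead_b {p : ℕ} [hp : Fact p.Prime] [CharP F p] (hC : Core P) (hpS : ¬ p ∣ Nat.card (Soc P))
    (h : Spor.IsoB (Soc P)) : Dead n (Soc P) := by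
  have hcard := NotCT.Orders.b h
  obtain ⟨e⟩ := h
  have hp2 : p ≠ 2 := by
    rintro rfl
    exact hpS (by rw [hcard]; norm_num)
  have hs := (MulEquiv.isSimpleGroup_congr e).1 hC.simple
  have hn : 28 ≤ n := H912.Bd.le_of_ls (H806.Ls.b_ls_two (H806.Ls.nc_of_core hC e))
    (H489.Deg.cast_ne (F := F) hp.out Nat.prime_two hp2) P hC.perfect e
  exact dead_of hC e (o := 4154781481226426191177580544000000) (A := 4154781481226426191177580544000000) (n₀ := 28) 29 348 21 (NotCT.Orders.b ⟨MulEquiv.refl _⟩)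
    S2084.result (by norm_num) (by norm_num) (by norm_num) (by norm_num) (by decide +kernel) (by decide +kernel) hn

/-- the large extraspecial subgroup of the Monster -/
theorem bd_m {F : Type u} [Field F] (h2 : (2 : F) ≠ 0) : H912.Bd.Bd F 2 (2 ^ 12) Spor.Monster := by
  obtain ⟨e'⟩ := Cfsg.Agent.MonsterP.Equiv.equiv
  have h := LThreeMB.KChart.chart MonsterX.KDone.lft LThreeMB.Row.cent
  exact (H921.Spor.bd_of_large h.large (k := 12) h.card_Q h2).congr e'

/-- `IsoM` -/
theorem dead_m {p : ℕ} [hp : Fact p.Prime] [CharP F p] (hC : Core P) (hpS : ¬ p ∣ Nat.card (Soc P))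
    (h : Spor.IsoM (Soc P)) : Dead n (Soc P) := by
  have hcard := NotCT.Orders.m h
  obtain ⟨e⟩ := h
  have hp2 : p ≠ 2 := by
    rintro rfl
    exact hpS (by rw [hcard]; norm_num)
  have h2 : (2 : F) ≠ 0 := by
    have := H489.Deg.cast_ne (F := F) hp.out Nat.prime_two hp2
    exact_mod_cast this
  have hn : 2 ^ 12 ≤ n := H489.Deg.le_of_bd hC e S2059.result (r := 2) (by norm_num) (bd_m h2)
  have := hC.simple
  have hfin : Finite (Soc P) := Nat.finite_of_card_ne_zero (by rw [hcard]; norm_num)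
  have hA := card_aut hC.nonabelian e (NotCT.Orders.m ⟨MulEquiv.refl _⟩) S2085.result (A := 808017424794512875886459904961710757005754368000000000) (by norm_num)
  refine dead_of_pow (b := 2) (by norm_num at hn; omega) (fun q hq _ => hq) ?_
  have h3 : Nat.card (MulAut (Soc P)) = 808017424794512875886459904961710757005754368000000000 :=
    (Nat.card_congr (MulAut.congr e).toEquiv).trans hA
  rw [h3]
  calc 808017424794512875886459904961710757005754368000000000 ^ 2 ≤ 2 * 2 ^ 400 := by decide +kernel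
    _ ≤ 2 * 2 ^ (n - 2) := Nat.mul_le_mul_left _ (Nat.pow_le_pow_right (by norm_num) (by norm_num at hn; omega))

/-- **B13** -/
theorem dead_spor₃ {p : ℕ} [hp : Fact p.Prime] [CharP F p] (hC : Core P) (hn : 13 ≤ n) (hpS : ¬ p ∣ Nat.card (Soc P))
    (h : Spor.IsoLy (Soc P) ∨ Spor.IsoFi22 (Soc P) ∨ Spor.IsoFi23 (Soc P) ∨ Spor.IsoFi24' (Soc P) ∨ Spor.IsoHN (Soc P) ∨
      Spor.IsoTh (Soc P) ∨ Spor.IsoB (Soc P) ∨ Spor.IsoM (Soc P)) : Dead n (Soc P) := by
  rcases h with h | h | h | h | h | h | h | h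
  · exact dead_ly hC hn h
  · exact dead_fi22 hC hn h
  · exact dead_fi23 hC hn h
  · exact dead_fi24 (p := p) hC hpS h
  · exact dead_hn hC hn h
  · exact dead_th hC hn h
  · exact dead_b (p := p) hC hpS h
  · exact dead_m (p := p) hC hpS h

end Cfsg.Agent.H119.HT
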